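import Mathlib
import Cfsg.Prelude.Def_Classical
import Cfsg.Prelude.Def_GeometricClasses
import Cfsg.Agent.Lib.Helper37.HypStmt
import Cfsg.Agent.Lib.Helper45.OMiStmt
import Cfsg.Agent.Lib.Helper41.TMTwoStmt

/-!
# S5990 (call by helper41): statement pieces

`POmega^-_(2d)(q)`, ALL `q`, elliptic `m`-spaces (`m` even, `2 ≤ m ≤ 2d - 2`), `r = 2` or `r ≠ p`.
MINUS-FORM PORT of helper45's S5988 call (`Cfsg.Agent.Lib.Helper45.EPStmt`): `P d`,
`Cfsg.quadFormPlus d F` are replaced by `M d = (Fin (d - 1) ⊕ Fin (d - 1)) ⊕ Fin 2`,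
`Cfsg.quadFormMinus (d - 1) F a₀ b₀`, with two new arguments `(a₀ b₀ : F) (_ : Aniso a₀ b₀)` right
after `[Fintype F]` in every Prop.  Vocabulary: `M`, `Aniso`, `FxM`, `NDegM`, `StabM` of
`Helper45.OMiStmt`; `PlusM` of `Helper41.TMTwoStmt` (= `Cfsg.Geo.IsPlusTypeOn` unfolded); these are
the ones of `Cfsg.Agent.Lib.Helper41.TMStmt` (S5987), so ALL landed minus-form Props of S5987 apply
verbatim, as `Cfsg.Agent.Lib.Helper41.TMWire.h<Name>`: `hTop` (nondegenerate, NOT plus), `hFixND`,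
`hPerp`, `hOrthSum`, `hSubPerp`, `hTwoG` (`V = A ⊥ B`, `dim A` even: `A` or `B` is plus),
`hTypeEven`, `hHalfOdd`, `hInvDim`, `hInvSub`, `hRImg`, `hFxType`
(`Plus (Fix x) ↔ Even i ∧ Odd ((2d - dim Fix x) / i)`), `hBlocksK`, `hBFE`, `hTsIn`, `hTsHalf`,
`hOddOmega`, `hEltDim` (`b` blocks of dim `c`; `b c = 2 d` only for `i` even, `b` odd), `hIPos`.

For an isometry `x` with `x ^ r = 1` (`r` odd, `r ≠ p`), `f = dim Fix x`, `V = Fix x ⊥ N`,
`N` = sum of `s = (2d - f) / c` blocks of dimension `c = cc i`; an invariant nondegenerate `R`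
without fixed vectors is of plus type if `i` is odd, and of type `(-1) ^ (dim R / i)` if `i` is
even; `Fix x` has the type opposite to `N` (the ambient form is of MINUS type).
An invariant elliptic `W` is `(W ⊓ Fix x) ⊥ R`, `dim R = j c`, `e = dim (W ⊓ Fix x) = m - j c`.
-/

set_option autoImplicit false

universe u

open scoped Matrix

namespace Cfsg.Agent.Lib.Helper41.EMStmt

open Cfsg.Agent.Lib.Helper37.HypStmt (cc)
open Cfsg.Agent.Lib.Helper45.OMiStmt (M Aniso FxM NDegM StabM)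
open Cfsg.Agent.Lib.Helper41.TMTwoStmt (PlusM)

/-- `W` is an elliptic `m`-space -/
def MemEM (d : ℕ) (F : Type u) [Field F] (a₀ b₀ : F) (m : ℕ) (W : Submodule F (M d → F)) : Prop :=
  Module.finrank F ↥W = m ∧
    Cfsg.Geo.IsNondegenerateOn (QuadraticMap.polar (Cfsg.quadFormMinus (d - 1) F a₀ b₀)) W ∧
    ¬ Cfsg.Geo.IsPlusTypeOn (Cfsg.quadFormMinus (d - 1) F a₀ b₀) W

/-! ## Geometry, all `q` -/

/-- SUBTYPE: a nondegenerate `U` contains nondegenerate subspaces of every even dimension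
`e < dim U` of plus type, and elliptic ones if `2 ≤ e`.  (Plus: a totally singular `e/2`-space
(`TPStmt.TsIn`) completed by hyperbolic pairs (`OTyp1.hyp_of_ts'`).  Elliptic: a hyperbolic
`(e-2)`-space `H`, and an anisotropic plane `A` in `H^⊥ ⊓ U` (nondegenerate of dimension `≥ 3`);
`H ⊔ A` is not of plus type by `CancelM`.) -/
def SubTypeE : Prop :=
  ∀ (F : Type u) [Field F] [Fintype F] (a₀ b₀ : F) (_ : Aniso a₀ b₀) (d e : ℕ) (U : Submodule F (M d → F)),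
    NDegM d F a₀ b₀ U → Even e → e < Module.finrank F ↥U →
    (∃ W : Submodule F (M d → F), W ≤ U ∧ Module.finrank F ↥W = e ∧ NDegM d F a₀ b₀ W ∧ PlusM d F a₀ b₀ W) ∧
    (2 ≤ e → ∃ W : Submodule F (M d → F), W ≤ U ∧ MemEM d F a₀ b₀ e W)

/-- SPLITW: an invariant nondegenerate `W` is `(W ⊓ Fix x) ⊥ R` with `R` invariant, nondegenerate,
without fixed vectors (`R = (x - 1) W`; averaging projection `(1/r) Σ x^j`, as in FIXND). -/
def SplitE : Prop :=
  ∀ (F : Type u) [Field F] [Fintype F] (a₀ b₀ : F) (_ : Aniso a₀ b₀) (p : ℕ) [Fact p.Prime] [CharP F p]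
    (d : ℕ) (r : ℕ) [Fact r.Prime], r ≠ p →
    ∀ x : Matrix.GeneralLinearGroup (M d) F, x ∈ Cfsg.isometryGroup F (Cfsg.quadFormMinus (d - 1) F a₀ b₀) →
    x ^ r = 1 → ∀ W : Submodule F (M d → F), StabM (x : Matrix (M d) (M d) F) W → NDegM d F a₀ b₀ W →
    NDegM d F a₀ b₀ (W ⊓ FxM (x : Matrix (M d) (M d) F)) ∧
    ∃ R : Submodule F (M d → F), R ≤ W ∧ StabM (x : Matrix (M d) (M d) F) R ∧ NDegM d F a₀ b₀ R ∧
      R ⊓ FxM (x : Matrix (M d) (M d) F) = ⊥ ∧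
      (∀ u ∈ R, ∀ v ∈ FxM (x : Matrix (M d) (M d) F),
        QuadraticMap.polar (Cfsg.quadFormMinus (d - 1) F a₀ b₀) u v = 0) ∧
      Module.finrank F ↥R + Module.finrank F ↥(W ⊓ FxM (x : Matrix (M d) (M d) F)) =
        Module.finrank F ↥W ∧
      (W ⊓ FxM (x : Matrix (M d) (M d) F)) ⊔ R = W

/-- DIMOBSA (all `q`; for `q` odd this is the landed `OPStmt.DimObsP`): `c` divides
`dim W - dim (W ⊓ Fix x)`.  (SPLITW; `InvDim`; for `i` odd `HalfOdd` on `R`.) -/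
def DimObsA : Prop :=
  ∀ (F : Type u) [Field F] [Fintype F] (a₀ b₀ : F) (_ : Aniso a₀ b₀) (p : ℕ) [Fact p.Prime] [CharP F p]
    (d : ℕ) (r : ℕ) [Fact r.Prime], r ≠ 2 → r ≠ p →
    ∀ x : Matrix.GeneralLinearGroup (M d) F, x ∈ Cfsg.isometryGroup F (Cfsg.quadFormMinus (d - 1) F a₀ b₀) →
    x ^ r = 1 → ∀ W : Submodule F (M d → F), StabM (x : Matrix (M d) (M d) F) W → NDegM d F a₀ b₀ W →
    cc (orderOf ((Fintype.card F : ℕ) : ZMod r)) ∣
      Module.finrank F ↥W - Module.finrank F ↥(W ⊓ FxM (x : Matrix (M d) (M d) F))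

/-- BLOCKSA (all `q`; for `q` odd this is the landed `OPStmt.BlocksP`): invariant nondegenerate
subspaces of dimension `j c` without fixed vectors, orthogonal to the fixed space.  (`i` even:
`TPStmt.BlocksK` + `OrthSum`; `i` odd: the char-free `Helper43.HypBFO.bfo` + `SubPerp` induction;
or the abstract `Helper64.OMiBLOCKSM.blocks_abs`.) -/
def BlocksA : Prop :=
  ∀ (F : Type u) [Field F] [Fintype F] (a₀ b₀ : F) (_ : Aniso a₀ b₀) (p : ℕ) [Fact p.Prime] [CharP F p]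
    (d : ℕ) (r : ℕ) [Fact r.Prime], r ≠ 2 → r ≠ p →
    ∀ x : Matrix.GeneralLinearGroup (M d) F, x ∈ Cfsg.isometryGroup F (Cfsg.quadFormMinus (d - 1) F a₀ b₀) →
    x ^ r = 1 → ∀ j : ℕ,
    j * cc (orderOf ((Fintype.card F : ℕ) : ZMod r)) +
      Module.finrank F ↥(FxM (x : Matrix (M d) (M d) F)) ≤ 2 * d →
    ∃ E : Submodule F (M d → F), StabM (x : Matrix (M d) (M d) F) E ∧ NDegM d F a₀ b₀ E ∧
      Module.finrank F ↥E = j * cc (orderOf ((Fintype.card F : ℕ) : ZMod r)) ∧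
      E ⊓ FxM (x : Matrix (M d) (M d) F) = ⊥ ∧
      ∀ u ∈ E, ∀ v ∈ FxM (x : Matrix (M d) (M d) F),
        QuadraticMap.polar (Cfsg.quadFormMinus (d - 1) F a₀ b₀) u v = 0

/-! ## Counting, all `q` -/

/-- FIXCONGE: fixed point congruence for `⟨x⟩`, `x ^ r = 1`, on the elliptic `m`-spaces
(port of `Helper4.GenCount.fixcong`; the isometry `x` permutes the elliptic `m`-spaces). -/
def FixCongE : Prop :=
  ∀ (F : Type u) [Field F] [Fintype F] (a₀ b₀ : F) (_ : Aniso a₀ b₀) (d m : ℕ) (r : ℕ) [Fact r.Prime]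
    (x : Matrix.GeneralLinearGroup (M d) F),
    x ∈ Cfsg.isometryGroup F (Cfsg.quadFormMinus (d - 1) F a₀ b₀) → x ^ r = 1 →
    Nat.card {W : Submodule F (M d → F) // MemEM d F a₀ b₀ m W} ≡
      Nat.card {W : Submodule F (M d → F) //
        MemEM d F a₀ b₀ m W ∧ StabM (x : Matrix (M d) (M d) F) W} [MOD r]

/-- UCARDE: for a nondegenerate `U` with `m < dim U < c`, `r` does not divide the number of
elliptic `m`-spaces inside `U`.  (They exist (SUBTYPE), are pairwise isometric (`OTyp1.exists_iso`),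
so form one orbit of the isometry group of `U` (Witt), which has no element of order `r` as
`dim U < c` (DIMOBSA-argument / `EllStmt.ACauchy`, `EllStmt.ACard` for `q` odd).) -/
def UCardE : Prop :=
  ∀ (F : Type u) [Field F] [Fintype F] (a₀ b₀ : F) (_ : Aniso a₀ b₀) (p : ℕ) [Fact p.Prime] [CharP F p]
    (d m : ℕ), 2 ≤ m → Even m → ∀ (r : ℕ) [Fact r.Prime], r ≠ 2 → r ≠ p →
    ∀ U : Submodule F (M d → F), NDegM d F a₀ b₀ U → m < Module.finrank F ↥U →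
    Module.finrank F ↥U < cc (orderOf ((Fintype.card F : ℕ) : ZMod r)) →
    ¬ r ∣ Nat.card {W : Submodule F (M d → F) // MemEM d F a₀ b₀ m W ∧ W ≤ U}

/-! ## Odd `r ≠ p`: assembly pieces -/

/-- the arithmetic condition of S5990 for odd `r ≠ p` (`c = cc i`, `k = (2d) % c`, `ℓ' = m % c`) -/
def CondEM (d m i : ℕ) : Prop :=
  (Odd i ∧ ((2 * d) % cc i = 0 ∨ (cc i ≤ m ∧ 0 < m % cc i ∧ m % cc i ≤ (2 * d) % cc i))) ∨
  (Even i ∧ (((2 * d) % cc i = 0 ∧ (Even ((2 * d) / i) ∨ (m % cc i = 0 ∧ Odd (m / i)))) ∨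
    (0 < (2 * d) % cc i ∧ i ≤ m ∧ ((0 < m % cc i ∧ m % cc i < (2 * d) % cc i) ∨
      (m % cc i = 0 ∧ Odd (m / i)) ∨
      (m % cc i = (2 * d) % cc i ∧ Even ((2 * d + m - 2 * ((2 * d) % cc i)) / i))))))

/-- what `r ∣ #Omega` gives (minus form: the fixed space of the element with `(2d) / c` blocks is
elliptic unless `i` is even and `(2d) / c` is odd) -/
def AEM (d m i : ℕ) : Prop :=
  cc i ≤ 2 * d ∧ (cc i ≤ m ∨ (2 * d) % cc i < m ∨
    ((2 * d) % cc i = m ∧ Even i ∧ Odd ((2 * d) / cc i)))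

/-- B1E (minus; adapt the S5988 piece EPB1E; hyps as needed, e.g. IPos Top FixND Perp InvDim
FxType TypeEven HalfOdd CancelM OrthSum BlocksA SubTypeE, all landed or pieces of this call): under
`CondEM` every isometry `y` with `y ^ r = 1` fixes an elliptic `m`-space.
Block model (`n = 2d`, `c = cc i`, `k = n % c`, `m = μ c + ℓ'`): `f = dim Fix y = n - s c`;
invariant nondegenerate `E ⊥ Fix y` of dim `j c`, `0 ≤ j ≤ s` (BLOCKSA), of plus type if `i` is odd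
(HalfOdd), of type `(-1)^j` if `i` is even (TypeEven); `Fix y` (FixND) has type given by FxType
(minus form!): `Plus (Fix y) ↔ Even i ∧ Odd s`; in particular `f ≠ 0` unless `i` even, `s` odd.
`W = W_F ⊥ E`, `W_F ≤ Fix y` of dim `e = m - j c`: for `0 < e < f` take `W_F` of the type opposite
to `E` (SUBTYPE; `e` is even); `e = 0`: `W = E`, needs `i` even, `j` odd; `e = f`: `W_F = Fix y`,
fine if `i` odd, needs `s + j` even if `i` even.  `W` is elliptic by CancelM.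
Choice: if `m > s c`: `j = s`, `e = m - s c`, `0 < e < f` as `m < n`.  Else (`μ ≤ s`):
`i` odd: `ℓ' > 0`: `j = μ`, `e = ℓ' ≤ f` (if `k = 0` then `f ≥ c > ℓ'`; else `ℓ' ≤ k ≤ f`);
`ℓ' = 0` (then `k = 0`, `f ≥ c`): `j = μ - 1`, `e = c ≤ f`.
`i` even, `k = 0`, `n / i` even (then `s < n / i`, `f ≥ i`): `ℓ' > 0`: `j = μ`, `e = ℓ' < f`;
`ℓ' = 0`, `μ` odd: `j = μ`, `e = 0`; `ℓ' = 0`, `μ` even: `j = μ - 1`, `e = i`: `< f`, or `= f` with
`s = n / i - 1`, `s + j` even.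
`i` even, `ℓ' = 0`, `μ` odd (any `k`): `j = μ`, `e = 0`.
`i` even, `k > 0`, `0 < ℓ' < k`: `j = μ`, `e = ℓ' < k ≤ f`.
`i` even, `k > 0`, `ℓ' = k`, `n / i + μ` even: `j = μ`, `e = k`: `< f` if `s < n / i`, `= f` if
`s = n / i` (then `s + j` even). -/
def B1E : Prop :=
  ∀ (F : Type u) [Field F] [Fintype F] (a₀ b₀ : F) (_ : Aniso a₀ b₀) (p : ℕ) [Fact p.Prime] [CharP F p]
    (d m : ℕ), 4 ≤ d → 2 ≤ m → Even m → m + 2 ≤ 2 * d →
    ∀ (r : ℕ) [Fact r.Prime], r ≠ 2 → r ≠ p →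
    CondEM d m (orderOf ((Fintype.card F : ℕ) : ZMod r)) →
    ∀ y : Matrix.GeneralLinearGroup (M d) F,
    y ∈ Cfsg.isometryGroup F (Cfsg.quadFormMinus (d - 1) F a₀ b₀) → y ^ r = 1 →
    ∃ W : Submodule F (M d → F), MemEM d F a₀ b₀ m W ∧ StabM (y : Matrix (M d) (M d) F) W

/-- B2E (minus; adapt the S5988 piece EPB2E; hyps as needed: IPos EltDim DimObsA SplitE HalfOdd
TypeEven FxType TwoMinusG Top Perp ...): if `CondEM` fails and `AEM` holds, some element of order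
`r` of `Omega^-` fixes no elliptic `m`-space.  `x` from `TMStmt.EltDim` with `b = (2d) / c` blocks
(`b ≥ 1` by AEM), `dim Fix x = k = (2d) % c`; if `b c = 2 d` the condition `Even i ∧ Odd b` of
EltDim holds as `¬ CondEM` (`k = 0`: `i` odd or `n / i` even would give CondEM).  `x ≠ 1`, so
`orderOf x = r`.  A fixed elliptic `W`: `e = dim (W ⊓ Fix x) ≡ m (mod c)` (DIMOBSA), `e ≤ k < c`, so
`e = ℓ' = m % c ≤ k`; `W = (W ⊓ Fix x) ⊥ R` (SPLITW).  `i` odd: `R` plus (HalfOdd), so `ℓ' > 0`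
(`⊥` is plus, sums of plus are plus), and `c ≤ m` by AEM (`m < c` would give `m = ℓ' ≤ k`): CondEM.
`i` even: `ℓ' = 0`: `W = R`, `m / i` odd (TypeEven): CondEM (`i ≤ m`).  `0 < ℓ' < k`: CondEM
(`i ≤ m` by AEM).  `ℓ' = k > 0`: `W^⊥` (Perp) is invariant without fixed vectors, of dim `2d - m`,
of plus type (`TwoMinusG` with `A = W`), so `(2d - m) / i` is even (TypeEven), i.e.
`(2d + m - 2k) / i` is even; `i ≤ m` by AEM (`m = k < i` needs `n / i` odd, but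
`(2d - m) / i = n / i`): CondEM. -/
def B2E : Prop :=
  ∀ (F : Type u) [Field F] [Fintype F] (a₀ b₀ : F) (_ : Aniso a₀ b₀) (p : ℕ) [Fact p.Prime] [CharP F p]
    (d m : ℕ), 4 ≤ d → 2 ≤ m → Even m → m + 2 ≤ 2 * d →
    ∀ (r : ℕ) [Fact r.Prime], r ≠ 2 → r ≠ p →
    AEM d m (orderOf ((Fintype.card F : ℕ) : ZMod r)) →
    ¬ CondEM d m (orderOf ((Fintype.card F : ℕ) : ZMod r)) →
    ∃ x : Matrix.GeneralLinearGroup (M d) F,
      x ∈ Cfsg.Geo.omegaGL (Cfsg.quadFormMinus (d - 1) F a₀ b₀) ∧ orderOf x = r ∧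
      ∀ W : Submodule F (M d → F), MemEM d F a₀ b₀ m W → ¬ StabM (x : Matrix (M d) (M d) F) W

/-- NDIVE (minus; adapt the S5988 piece EPNDIVE; hyps: IPos EltDim FixCongE UCardE DimObsA FixND
FxType Top ...): `r ∣ #Omega` gives `AEM`.  `c > 2d`: UCARDE with `U = ⊤` (`m < 2d`).  `k = 0`:
AEM holds (`0 < m`).  Else `x` from `TMStmt.EltDim` with `b = (2d) / c ≥ 1` blocks (`b c < 2 d`),
`dim Fix x = k`; if `m < c` and `m ≤ k`: the elliptic `m`-spaces fixed by `x` are those inside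
`Fix x` (DIMOBSA), FIXCONGE; `m < k`: UCARDE with `U = Fix x` (FixND); `m = k`: `Fix x` is elliptic
unless `i` even and `b` odd (FxType, minus form), so exactly one fixed member. -/
def NDivE : Prop :=
  ∀ (F : Type u) [Field F] [Fintype F] (a₀ b₀ : F) (_ : Aniso a₀ b₀) (p : ℕ) [Fact p.Prime] [CharP F p]
    (d m : ℕ), 4 ≤ d → 2 ≤ m → Even m → m + 2 ≤ 2 * d →
    ∀ (r : ℕ) [Fact r.Prime], r ≠ 2 → r ≠ p →
    r ∣ Nat.card {W : Submodule F (M d → F) // MemEM d F a₀ b₀ m W} →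
    AEM d m (orderOf ((Fintype.card F : ℕ) : ZMod r))

/-! ## `r = 2`, `q` odd -/

/-- INVOLE (minus, `q` odd; hyps SubTypeE, CancelM, `Helper66.InvolDec` / landed
`Helper89.TM2INVDEC`): an isometry with `x * x = 1`, `x ≠ ± 1`, fixes an elliptic `m`-space for
every even `m`, `2 ≤ m ≤ 2d - 2`.  `V = Fx ⊥ Fm`, both nondegenerate, of dims `≥ 1`; `A` = the
eigenspace of dim `a ≥ d ≥ 4`, `B` the other one (dim `b = 2d - a ≥ 1`).  `m < a`: SUBTYPE in `A`.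
`m ≥ a`, `a` odd: `W = W_A ⊥ W_B`, `W_A ≤ A` elliptic of dim `a - 1`, `W_B ≤ B` plus of dim
`m - a + 1 < b`.  `m ≥ a`, `a` even: `W_A ≤ A` of dim `a - 2`, `W_B ≤ B` of dim `m - a + 2 ≤ b`:
if `< b`: `W_A` elliptic, `W_B` plus; if `= b`: `W_B = B` and `W_A` of the type opposite to `B`.
`W` elliptic by CancelM; invariant as `x = ± 1` on `A`, `B`. -/
def InvolE : Prop :=
  ∀ (F : Type u) [Field F] [Fintype F] (a₀ b₀ : F) (_ : Aniso a₀ b₀), Odd (Fintype.card F) → ∀ (d m : ℕ), 4 ≤ d → 2 ≤ m → Even m →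
    m + 2 ≤ 2 * d → ∀ x : Matrix.GeneralLinearGroup (M d) F,
    x ∈ Cfsg.isometryGroup F (Cfsg.quadFormMinus (d - 1) F a₀ b₀) →
    (x : Matrix (M d) (M d) F) * (x : Matrix (M d) (M d) F) = 1 →
    (∀ z : F, (x : Matrix (M d) (M d) F) ≠ z • (1 : Matrix (M d) (M d) F)) →
    ∃ W : Submodule F (M d → F), MemEM d F a₀ b₀ m W ∧ StabM (x : Matrix (M d) (M d) F) W

/-- NEGSQFIXB1: `q ≡ 3 (mod 4)`, `x * x = -1`: an invariant nondegenerate `W` with
`dim W ≡ 0 (mod 4)` is of plus type.  (`W` is an orthogonal sum of planes `⟨v, x v⟩`, `Q (x v) = Q v`,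
`v ⊥ x v`; for two such planes on `v, w`: `u = v + a w + b x w` with `(a² + b²) Q w = - Q v` is
singular and `⟨u, x u⟩` is totally singular.  Or: Gram determinant of `W` is a square
(`Helper2.NegSqGen`).) -/
def NegSqFixB1 : Prop :=
  ∀ (F : Type u) [Field F] [Fintype F] (a₀ b₀ : F) (_ : Aniso a₀ b₀), Fintype.card F % 4 = 3 → ∀ (d : ℕ)
    (x : Matrix.GeneralLinearGroup (M d) F),
    x ∈ Cfsg.isometryGroup F (Cfsg.quadFormMinus (d - 1) F a₀ b₀) →
    (x : Matrix (M d) (M d) F) * (x : Matrix (M d) (M d) F) = -1 →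
    ∀ W : Submodule F (M d → F), NDegM d F a₀ b₀ W → StabM (x : Matrix (M d) (M d) F) W →
    Module.finrank F ↥W % 4 = 0 → PlusM d F a₀ b₀ W

/-- NEGSQFIXB2: `q ≡ 3 (mod 4)`, `x * x = -1`, `m ≡ 2 (mod 4)`, `m ≤ 2 d`: `x` fixes an elliptic
`m`-space (an orthogonal sum of `m / 2` planes `⟨v, x v⟩`, each anisotropic as `-1` is a
nonsquare; `W = W' ⊥ ⟨v, x v⟩` with `W'` of plus type (NEGSQFIXB1) is elliptic by `CancelM`). -/
def NegSqFixB2 : Prop :=
  ∀ (F : Type u) [Field F] [Fintype F] (a₀ b₀ : F) (_ : Aniso a₀ b₀), Fintype.card F % 4 = 3 → ∀ (d m : ℕ), m % 4 = 2 →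
    m ≤ 2 * d → ∀ x : Matrix.GeneralLinearGroup (M d) F,
    x ∈ Cfsg.isometryGroup F (Cfsg.quadFormMinus (d - 1) F a₀ b₀) →
    (x : Matrix (M d) (M d) F) * (x : Matrix (M d) (M d) F) = -1 →
    ∃ W : Submodule F (M d → F), MemEM d F a₀ b₀ m W ∧ StabM (x : Matrix (M d) (M d) F) W

/-! ## Witt cancellation for the minus form -/

/-- CANCEL (minus; adapt the S5973 piece TPCANCEL, e.g. `Helper11.TPCANCEL`; the statement does
not depend on the type of the ambient form): Witt cancellation of a plus-type summand. -/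
def CancelM : Prop :=
  ∀ (F : Type u) [Field F] [Fintype F] (a₀ b₀ : F) (_ : Aniso a₀ b₀) (d : ℕ) (A B : Submodule F (M d → F)),
    NDegM d F a₀ b₀ A → NDegM d F a₀ b₀ B →
    (∀ u ∈ A, ∀ v ∈ B, QuadraticMap.polar (Cfsg.quadFormMinus (d - 1) F a₀ b₀) u v = 0) →
    PlusM d F a₀ b₀ (A ⊔ B) → PlusM d F a₀ b₀ A → PlusM d F a₀ b₀ B

/-! ## `r = 2 = p` (characteristic `2`) -/

/-- C2FIX (minus twin of helper40's S5974 piece HPC2FIX; HARD, second seats at once; hyps as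
needed: Top TwoMinusG CancelM SubTypeE SubPerp OrthSum ...): char 2: every isometry with
`x * x = 1` fixes an elliptic `m`-space (`2 ≤ m ≤ 2d - 2`) if `d` is even or `m ≡ 2 (mod 4)`.
Sketch, `N = x - 1`, `N² = 0`, `β(N u, v) = β(u, N v)`, `Q(N u) = β(u, x u) = β(u, N u)`, and
`u ↦ β(u, N u)` is additive, `= ℓ(u)²` with `ℓ` linear.  General claim by induction on
`dim Y = 2d'` for an invariant nondegenerate subspace `Y` of MINUS type (not plus), even `m`,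
`2 ≤ m ≤ 2d'`: an invariant elliptic `m`-space inside `Y` exists unless
(`ℓ = 0` on `Y`, `rank (N|Y) = d' - 1`, `4 ∣ m`).  Steps: `m = 2d'`: `W = Y`.  `x = 1` on `Y`:
SUBTYPE.  `ℓ ≠ 0` (then `d' ≥ 2`): a singular `u ∈ Y` with `ℓ u ≠ 0` (singular vectors span `Y`)
gives the invariant hyperbolic plane `H = ⟨u, x u⟩`; `Y' = H^⊥ ⊓ Y` is of minus type (CancelM), dim
`2d' - 2`: take `W ≤ Y'` of dim `m`, or, if `Y'` is exceptional for `m` (then `4 ∣ m`),
`W = H ⊥ W'` with `W' ≤ Y'` elliptic of dim `m - 2`.  `ℓ = 0`, `N u ≠ 0`: pick `v` with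
`β(N u, v) = 1`: `A = ⟨u, v, N u, N v⟩` is an invariant hyperbolic 4-space (`⟨N u, N v⟩` totally
singular); `Y' = A^⊥ ⊓ Y` minus, dim `2d' - 4 ≥ 2`, `ℓ = 0`, rank `- 2`, so exceptional for the same
`m`: `m ≤ 2d' - 4`: `W ≤ Y'`; `m = 2d' - 2`: `W = A ⊥ W'`, `W' ≤ Y'` of dim `m - 4 ≥ 2` (`d' = 3`,
`m = 4` is exceptional).  For `Y = ⊤`, `d` even: `ℓ = 0` forces `rank N` even (`β(u, N v)` is
alternating with radical `ker N`), `≠ d - 1`. -/
def C2Fix : Prop :=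
  ∀ (F : Type u) [Field F] [Fintype F] (a₀ b₀ : F) (_ : Aniso a₀ b₀) [CharP F 2] (d m : ℕ), 4 ≤ d → 2 ≤ m → Even m → m + 2 ≤ 2 * d →
    (Even d ∨ m % 4 = 2) →
    ∀ x : Matrix.GeneralLinearGroup (M d) F,
    x ∈ Cfsg.isometryGroup F (Cfsg.quadFormMinus (d - 1) F a₀ b₀) →
    (x : Matrix (M d) (M d) F) * (x : Matrix (M d) (M d) F) = 1 →
    ∃ W : Submodule F (M d → F), MemEM d F a₀ b₀ m W ∧ StabM (x : Matrix (M d) (M d) F) W

/-- C2DER (minus twin of helper40's HPC2DER / helper45's EPPELTE2 + EPPFIXE): char 2, `d` odd,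
`4 ∣ m`: `x` = identity on the `Fin 2` part and `fromBlocks 1 S 0 1` on the hyperbolic part
`Fin (d-1) ⊕ Fin (d-1)`, `S` the permutation matrix of `2a ↔ 2a+1` (`d - 1` even).  Isometry,
`x * x = 1`, not scalar; in `Omega^-` (commutator subgroup) as a product of Siegel elements
`fromBlocks 1 (E_ik + E_ki) 0 1 = [diag(A, A⁻ᵀ), fromBlocks 1 B 0 1]`, `A = 1 + E_ij`,
`B = E_jk + E_kj` (`d - 1 ≥ 3`), all extended by the identity on `Fin 2`.  `N = x - 1`:
`rank N = d - 1`, `β(u, N u) = 0`.  For an invariant nondegenerate `W` of dim `w`, `U = W^⊥`: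
`γ(u, v) = β(u, N v)` is alternating on `W` with radical `ker N ⊓ W`, so `ρ_W = rank (N|W)` is
even, `N W ≤ ker N ⊓ W` gives `2 ρ_W ≤ w`; same for `U`; `ρ_W + ρ_U = d - 1`.  So
`2 ρ_W ∈ {w, w - 2}`, and `4 ∣ w` forces `2 ρ_W = w`: `N W` is totally singular of dim `w / 2`,
`W` is of plus type. -/
def C2Der : Prop :=
  ∀ (F : Type u) [Field F] [Fintype F] (a₀ b₀ : F) (_ : Aniso a₀ b₀) [CharP F 2] (d m : ℕ), 4 ≤ d → Odd d → 2 ≤ m → m % 4 = 0 →
    m + 2 ≤ 2 * d →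
    ∃ x : Matrix.GeneralLinearGroup (M d) F, x ∈ Cfsg.Geo.omegaGL (Cfsg.quadFormMinus (d - 1) F a₀ b₀) ∧
      (x : Matrix (M d) (M d) F) * (x : Matrix (M d) (M d) F) = 1 ∧
      (∀ z : F, (x : Matrix (M d) (M d) F) ≠ z • (1 : Matrix (M d) (M d) F)) ∧
      ∀ W : Submodule F (M d → F), MemEM d F a₀ b₀ m W → ¬ StabM (x : Matrix (M d) (M d) F) W

end Cfsg.Agent.Lib.Helper41.EMStmt
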