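import Mathlib
import Cfsg.Agent.Lib.Helper16.BRStmt
import Cfsg.Agent.Lib.CT.NormOne
import Cfsg.Agent.Lib.CT.Ops
import Cfsg.Agent.Lib.CT.Wedderburn

/-!
# Brauer–Reynolds, piece [PG]: the case `δ = 1`, `t ≥ 3` does not occur
-/

set_option autoImplicit false

namespace Cfsg.Agent.Lib.Helper41.BRPG

open Cfsg Cfsg.Agent.Lib.CT.ThirdMain Cfsg.Agent.Lib.Helper16.BRSpec
open scoped ComplexConjugate

universe u

theorem finsum_mem_eq_sum' {α M : Type*} [AddCommMonoid M] [Finite α] (s : Set α) (f : α → M)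
    (sf : Finset α) (h : ∀ x, x ∈ sf ↔ x ∈ s) : ∑ᶠ x ∈ s, f x = ∑ x ∈ sf, f x := by
  rw [finsum_mem_eq_finite_toFinset_sum f (Set.toFinite s)]
  apply Finset.sum_congr _ (fun _ _ => rfl)
  ext x
  rw [Set.Finite.mem_toFinset, h]

/-- the final numerical contradiction -/
theorem arith_false (e t n p v : ℕ) (he : 2 ≤ e) (ht : 3 ≤ t) (hn : n + 1 = t)
    (hpe : p = e * t + 1) (hv : v = 1 + n * p)
    (h : (v : ℝ) * ((p : ℝ) - e) ≤ (t : ℝ) * ((v : ℝ) + (e : ℝ) ^ 2 - 1)) : False := by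
  have hn' : (n : ℝ) = (t : ℝ) - 1 := by
    have : ((n + 1 : ℕ) : ℝ) = (t : ℝ) := by rw [hn]
    push_cast at this
    linarith
  have hp' : (p : ℝ) = (e : ℝ) * t + 1 := by
    rw [hpe]
    push_cast
    ring
  have hv' : (v : ℝ) = 1 + ((t : ℝ) - 1) * ((e : ℝ) * t + 1) := by
    rw [hv]
    push_cast
    rw [hn', hp']
  have key : (v : ℝ) * ((p : ℝ) - e) - (t : ℝ) * ((v : ℝ) + (e : ℝ) ^ 2 - 1)
      = ((e : ℝ) - 1) * t * ((t : ℝ) - 2) * ((e : ℝ) * t + 1) := by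
    rw [hv', hp']
    ring
  have he' : (2 : ℝ) ≤ (e : ℝ) := by exact_mod_cast he
  have ht' : (3 : ℝ) ≤ (t : ℝ) := by exact_mod_cast ht
  have hpos : 0 < ((e : ℝ) - 1) * t * ((t : ℝ) - 2) * ((e : ℝ) * t + 1) := by
    have h1 : 0 < (e : ℝ) - 1 := by linarith
    have h2 : 0 < (t : ℝ) := by linarith
    have h3 : 0 < (t : ℝ) - 2 := by linarith
    have h4 : 0 < (e : ℝ) * t + 1 := by positivity
    exact mul_pos (mul_pos (mul_pos h1 h2) h3) h4
  linarith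

/-- **Piece [PG].** -/
theorem main : Cfsg.Agent.Lib.Helper16.BRStmt.CaseCFalse.{u} := by
  intro G _ _ p _ P e t n a b f A B Y T ht3
  classical
  have hp : p.Prime := Fact.out
  letI : Fintype G := Fintype.ofFinite G
  haveI := Cfsg.Agent.Lib.CT.Wedderburn.finite_irrCharacter G
  letI : Fintype (IrrCharacter G) := Fintype.ofFinite _
  obtain ⟨hfe, -, -⟩ : f = e ∧ b = a * n ∧ e = a * t + 1 := by
    rcases T.hcase with h | h
    · exact h.2
    · exact absurd h.1 (by norm_num)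
  have he2 := T.he
  have hpe := T.hpe
  have hnt := T.hn
  obtain ⟨v, hv⟩ : ∃ v : ℕ, v = 1 + n * p := ⟨_, rfl⟩
  -- the nonidentity elements of `P`
  obtain ⟨Ps, hPs⟩ : ∃ Ps : Finset G, ∀ z, z ∈ Ps ↔ z ∈ (P : Subgroup G) ∧ z ≠ 1 :=
    ⟨Finset.univ.filter (fun z => z ∈ (P : Subgroup G) ∧ z ≠ 1), fun z => by simp⟩
  have hPs' : ∀ z, z ∈ Ps ↔ z ∈ (((P : Subgroup G) : Set G) \ {1}) := by
    intro z
    rw [hPs, Set.mem_sdiff, Set.mem_singleton_iff]
    rfl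
  have hPscard : Ps.card + 1 = p := by
    have h1 : insert 1 Ps = Finset.univ.filter (fun z : G => z ∈ (P : Subgroup G)) := by
      ext z
      rw [Finset.mem_insert, hPs, Finset.mem_filter]
      constructor
      · rintro (h | h)
        · rw [h]
          exact ⟨Finset.mem_univ _, one_mem _⟩
        · exact ⟨Finset.mem_univ _, h.1⟩
      · intro h
        by_cases hz : z = 1
        · exact Or.inl hz
        · exact Or.inr ⟨h.2, hz⟩
    have h2 : (1 : G) ∉ Ps := fun h => ((hPs 1).1 h).2 rfl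
    have h3 : (Finset.univ.filter (fun z : G => z ∈ (P : Subgroup G))).card
        = Nat.card (P : Subgroup G) := by
      rw [Nat.card_eq_fintype_card, Fintype.card_subtype]
    rw [← Finset.card_insert_of_notMem h2, h1, h3, T.hP]
  have hPsc : (Ps.card : ℝ) = (p : ℝ) - 1 := by
    have : ((Ps.card + 1 : ℕ) : ℝ) = (p : ℝ) := by rw [hPscard]
    push_cast at this
    linarith
  -- `Y` as a finset
  obtain ⟨Yf, hYf⟩ : ∃ Yf : Finset (IrrCharacter G), ∀ θ, θ ∈ Yf ↔ θ ∈ Y :=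
    ⟨(Set.toFinite Y).toFinset, fun θ => Set.Finite.mem_toFinset _⟩
  have hYfcard : Yf.card = t := by
    rw [← T.cY, Set.ncard_eq_toFinset_card Y (Set.toFinite Y)]
    congr 1
    ext θ
    rw [hYf, Set.Finite.mem_toFinset]
  have hYne : Yf.Nonempty := by
    rw [← Finset.card_pos, hYfcard]
    omega
  -- sums over `P \ {1}`
  have hSA : ∀ χ ∈ A, ∑ z ∈ Ps, (χ : G → ℂ) z = (Ps.card : ℂ) := by
    intro χ hχ
    rw [Finset.sum_congr rfl (fun z hz => (T.hA χ hχ).2 z ((hPs z).1 hz).1 ((hPs z).1 hz).2)]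
    simp
  have hSB : ∀ χ ∈ B, ∑ z ∈ Ps, (χ : G → ℂ) z = -(Ps.card : ℂ) := by
    intro χ hχ
    rw [Finset.sum_congr rfl (fun z hz => (T.hB χ hχ).2 z ((hPs z).1 hz).1 ((hPs z).1 hz).2)]
    simp
  have hSY : ∀ θ ∈ Y, ∑ z ∈ Ps, (θ : G → ℂ) z = -(e : ℂ) := by
    intro θ hθ
    rw [← finsum_mem_eq_sum' _ _ Ps hPs', T.hYs θ hθ]
    simp
  have hSZ : ∀ χ ∈ Zset A B Y, ∑ z ∈ Ps, (χ : G → ℂ) z = 0 := by
    intro χ hχ
    exact Finset.sum_eq_zero (fun z hz => T.hZ χ hχ z ((hPs z).1 hz).1 ((hPs z).1 hz).2)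
  have hST : ∑ z ∈ Ps, ((triv G : IrrCharacter G) : G → ℂ) z = (Ps.card : ℂ) := by
    rw [coe_triv]
    simp
  -- the squares of the exceptional characters
  have hYq : ∑ θ ∈ Yf, ∑ z ∈ Ps, Complex.normSq ((θ : G → ℂ) z)
      = ((p : ℝ) - 1) * ((p : ℝ) - e) := by
    rw [Finset.sum_comm]
    have h1 : ∀ z ∈ Ps, ∑ θ ∈ Yf, Complex.normSq ((θ : G → ℂ) z) = (p : ℝ) - e := by
      intro z hz
      have h2 := T.hYq z ((hPs z).1 hz).1 ((hPs z).1 hz).2
      rw [finsum_mem_eq_sum' _ _ Yf hYf] at h2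
      have h3 : ∑ θ ∈ Yf, (θ : G → ℂ) z * conj ((θ : G → ℂ) z)
          = ((∑ θ ∈ Yf, Complex.normSq ((θ : G → ℂ) z) : ℝ) : ℂ) := by
        push_cast
        refine Finset.sum_congr rfl fun θ _ => ?_
        rw [Complex.mul_conj]
      rw [h3] at h2
      have hle : e ≤ p := by
        rw [hpe]
        nlinarith [T.ht]
      have h4 : ((p - e : ℕ) : ℂ) = (((p : ℝ) - e : ℝ) : ℂ) := by
        push_cast [Nat.cast_sub hle]
        rfl
      rw [h4] at h2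
      exact_mod_cast h2
    rw [Finset.sum_congr rfl h1, Finset.sum_const, nsmul_eq_mul, hPsc]
  -- choose `θ`
  obtain ⟨θ, hθYf, hθ⟩ : ∃ θ ∈ Yf, ((p : ℝ) - 1) * ((p : ℝ) - e) / t
      ≤ ∑ z ∈ Ps, Complex.normSq ((θ : G → ℂ) z) := by
    apply Finset.exists_le_of_sum_le hYne
    rw [Finset.sum_const, nsmul_eq_mul, hYfcard, hYq]
    have ht0 : (t : ℝ) ≠ 0 := by
      have := T.ht
      positivity
    field_simp
    exact le_refl _
  have hθY : θ ∈ Y := (hYf θ).1 hθYf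
  -- the character `θ θ̄`
  obtain ⟨ψ, hψdef⟩ : ∃ ψ : G → ℂ, ψ = (θ : G → ℂ) * (fun g => (θ : G → ℂ) g⁻¹) := ⟨_, rfl⟩
  have hθc : IsCharacter G (θ : G → ℂ) := Cfsg.Agent.Lib.CT.Wedderburn.isCharacter_of_irr θ.2
  have hψc : IsCharacter G ψ := by
    rw [hψdef]
    exact Cfsg.Agent.Lib.CT.Ops.isCharacter_mul hθc
      (Cfsg.Agent.Lib.CT.Wedderburn.isCharacter_of_irr
        (Cfsg.Agent.Lib.CT.Ops.isIrrCharacter_inv_arg θ.2))
  have hψv : ∀ g, ψ g = (Complex.normSq ((θ : G → ℂ) g) : ℂ) := by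
    intro g
    rw [hψdef, Pi.mul_apply, Cfsg.Agent.Lib.CT.Wedderburn.char_apply_inv hθc, Complex.mul_conj]
  obtain ⟨m, hm, hexp⟩ := Cfsg.Agent.Lib.CT.NormOne.exists_mult_sum hψc
  have hexp' : ∀ g, ψ g = ∑ χ : IrrCharacter G, (m χ : ℂ) * (χ : G → ℂ) g := by
    intro g
    have h1 := congrFun hexp g
    rw [Finset.sum_apply] at h1
    rw [h1]
    rfl
  have hmt : m (triv G) = 1 := by
    have h1 := hm (triv G)
    have h2 : classInner ψ ((triv G : IrrCharacter G) : G → ℂ)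
        = classInner (θ : G → ℂ) (θ : G → ℂ) := by
      unfold classInner
      congr 1
      refine Finset.sum_congr rfl fun g _ => ?_
      rw [hψv g, coe_triv, map_one, mul_one, Complex.mul_conj]
    rw [h2, Cfsg.Agent.Lib.CT.Wedderburn.irr_orthonormal θ θ, if_pos rfl] at h1
    exact_mod_cast h1.symm
  -- degrees
  have hdeg : ∀ χ : IrrCharacter G, ∃ d : ℕ, (χ : G → ℂ) 1 = (d : ℂ) := by
    intro χ
    obtain ⟨d, -, hd⟩ := Cfsg.Agent.Lib.CT.Wedderburn.irr_exists_apply_one_pos χ.2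
    exact ⟨d, hd⟩
  choose dg hdg using hdeg
  have hdt : dg (triv G) = 1 := by
    have h1 : ((triv G : IrrCharacter G) : G → ℂ) 1 = (dg (triv G) : ℂ) := hdg (triv G)
    have h2 : ((triv G : IrrCharacter G) : G → ℂ) 1 = 1 := rfl
    rw [h2] at h1
    exact_mod_cast h1.symm
  have hdA : ∀ χ ∈ A, dg χ = v := by
    intro χ hχ
    have h1 := hdg χ
    rw [(T.hA χ hχ).1] at h1
    rw [hv]
    exact_mod_cast h1.symm
  -- `ψ(1) = e²`
  have hψ1 : ∑ χ : IrrCharacter G, (m χ : ℝ) * (dg χ : ℝ) = (e : ℝ) ^ 2 := by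
    have h1 := hexp' 1
    rw [hψv 1, T.hY1 θ hθY, hfe] at h1
    have h2 : ∑ χ : IrrCharacter G, (m χ : ℂ) * (χ : G → ℂ) 1
        = ((∑ χ : IrrCharacter G, (m χ : ℝ) * (dg χ : ℝ) : ℝ) : ℂ) := by
      push_cast
      refine Finset.sum_congr rfl fun χ _ => ?_
      rw [hdg χ]
    rw [h2] at h1
    have h3 : Complex.normSq (e : ℂ) = (e : ℝ) ^ 2 := by
      rw [Complex.normSq_natCast, sq]
    rw [h3] at h1
    exact_mod_cast h1.symm
  -- the sums `s χ`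
  have hsre : ∀ χ : IrrCharacter G, ∃ s : ℝ, ∑ z ∈ Ps, (χ : G → ℂ) z = (s : ℂ) ∧
      (v : ℝ) * s ≤ ((p : ℝ) - 1) *
        ((v : ℝ) * (if χ = triv G then 1 else 0) + (dg χ : ℝ) - (if χ = triv G then 1 else 0)) := by
    intro χ
    have hp1 : (0 : ℝ) ≤ (p : ℝ) - 1 := by
      rw [← hPsc]
      positivity
    have hd0 : (0 : ℝ) ≤ (dg χ : ℝ) := by positivity
    have hv0 : (0 : ℝ) ≤ (v : ℝ) := by positivity
    by_cases h1 : χ = triv G
    · refine ⟨(p : ℝ) - 1, ?_, ?_⟩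
      · rw [h1, hST, ← hPsc]
        push_cast
        rfl
      · rw [if_pos h1, h1, hdt]
        push_cast
        nlinarith
    by_cases hA : χ ∈ A
    · refine ⟨(p : ℝ) - 1, ?_, ?_⟩
      · rw [hSA χ hA, ← hPsc]
        push_cast
        rfl
      · rw [if_neg h1, hdA χ hA]
        nlinarith
    by_cases hB : χ ∈ B
    · refine ⟨-((p : ℝ) - 1), ?_, ?_⟩
      · rw [hSB χ hB, ← hPsc]
        push_cast
        rfl
      · rw [if_neg h1]
        nlinarith [mul_nonneg hv0 hp1, mul_nonneg hp1 hd0]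
    by_cases hY : χ ∈ Y
    · refine ⟨-(e : ℝ), ?_, ?_⟩
      · rw [hSY χ hY]
        push_cast
        rfl
      · rw [if_neg h1]
        have he0 : (0 : ℝ) ≤ (e : ℝ) := by positivity
        nlinarith [mul_nonneg hv0 he0, mul_nonneg hp1 hd0]
    · refine ⟨0, ?_, ?_⟩
      · rw [hSZ χ ⟨h1, hA, hB, hY⟩]
        push_cast
        rfl
      · rw [if_neg h1]
        nlinarith [mul_nonneg hp1 hd0]
  choose s hs1 hs2 using hsre
  -- `Q = ∑ m χ s χ`
  have hQ : ∑ z ∈ Ps, Complex.normSq ((θ : G → ℂ) z) = ∑ χ : IrrCharacter G, (m χ : ℝ) * s χ := by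
    have h1 : ((∑ z ∈ Ps, Complex.normSq ((θ : G → ℂ) z) : ℝ) : ℂ)
        = ((∑ χ : IrrCharacter G, (m χ : ℝ) * s χ : ℝ) : ℂ) := by
      push_cast
      rw [Finset.sum_congr rfl (fun z _ => (hψv z).symm),
        Finset.sum_congr rfl (fun z _ => hexp' z), Finset.sum_comm]
      refine Finset.sum_congr rfl fun χ _ => ?_
      rw [← Finset.mul_sum, hs1 χ]
    exact_mod_cast h1
  -- the upper bound
  have hup : (v : ℝ) * ∑ z ∈ Ps, Complex.normSq ((θ : G → ℂ) z)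
      ≤ ((p : ℝ) - 1) * ((v : ℝ) + (e : ℝ) ^ 2 - 1) := by
    rw [hQ, Finset.mul_sum]
    have h1 : ∀ χ ∈ (Finset.univ : Finset (IrrCharacter G)), (v : ℝ) * ((m χ : ℝ) * s χ)
        ≤ ((p : ℝ) - 1) * ((v : ℝ) * ((m χ : ℝ) * (if χ = triv G then 1 else 0))
          + (m χ : ℝ) * (dg χ : ℝ) - (m χ : ℝ) * (if χ = triv G then 1 else 0)) := by
      intro χ _
      have h2 := hs2 χ
      have hm0 : (0 : ℝ) ≤ (m χ : ℝ) := by positivity
      have h3 := mul_le_mul_of_nonneg_left h2 hm0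
      calc (v : ℝ) * ((m χ : ℝ) * s χ) = (m χ : ℝ) * ((v : ℝ) * s χ) := by ring
        _ ≤ (m χ : ℝ) * (((p : ℝ) - 1) * ((v : ℝ) * (if χ = triv G then 1 else 0)
            + (dg χ : ℝ) - (if χ = triv G then 1 else 0))) := h3
        _ = _ := by ring
    refine le_trans (Finset.sum_le_sum h1) ?_
    rw [← Finset.mul_sum, Finset.sum_sub_distrib, Finset.sum_add_distrib, ← Finset.mul_sum, hψ1]
    have h4 : ∑ χ : IrrCharacter G, (m χ : ℝ) * (if χ = triv G then (1 : ℝ) else 0) = 1 := by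
      simp only [mul_ite, mul_one, mul_zero]
      rw [Finset.sum_ite_eq' Finset.univ (triv G) (fun χ => (m χ : ℝ)),
        if_pos (Finset.mem_univ _), hmt]
      norm_num
    rw [h4, mul_one]
  -- conclusion
  have htpos : (0 : ℝ) < (t : ℝ) := by
    have := T.ht
    positivity
  have hp1pos : (0 : ℝ) < (p : ℝ) - 1 := by
    have h1 : (p : ℝ) = (e : ℝ) * t + 1 := by
      rw [hpe]
      push_cast
      ring
    have h2 : (0 : ℝ) < (e : ℝ) := by positivity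
    rw [h1]
    nlinarith
  have hv0 : (0 : ℝ) ≤ (v : ℝ) := by positivity
  have hθ' : ((p : ℝ) - 1) * ((p : ℝ) - e)
      ≤ (t : ℝ) * ∑ z ∈ Ps, Complex.normSq ((θ : G → ℂ) z) := by
    rw [div_le_iff₀ htpos] at hθ
    linarith
  have hfin : (v : ℝ) * ((p : ℝ) - e) ≤ (t : ℝ) * ((v : ℝ) + (e : ℝ) ^ 2 - 1) := by
    have h1 : ((p : ℝ) - 1) * ((v : ℝ) * ((p : ℝ) - e))
        ≤ ((p : ℝ) - 1) * ((t : ℝ) * ((v : ℝ) + (e : ℝ) ^ 2 - 1)) := by
      calc ((p : ℝ) - 1) * ((v : ℝ) * ((p : ℝ) - e))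
          = (v : ℝ) * (((p : ℝ) - 1) * ((p : ℝ) - e)) := by ring
        _ ≤ (v : ℝ) * ((t : ℝ) * ∑ z ∈ Ps, Complex.normSq ((θ : G → ℂ) z)) :=
            mul_le_mul_of_nonneg_left hθ' hv0
        _ = (t : ℝ) * ((v : ℝ) * ∑ z ∈ Ps, Complex.normSq ((θ : G → ℂ) z)) := by ring
        _ ≤ (t : ℝ) * (((p : ℝ) - 1) * ((v : ℝ) + (e : ℝ) ^ 2 - 1)) :=
            mul_le_mul_of_nonneg_left hup htpos.le
        _ = _ := by ring
    exact le_of_mul_le_mul_left h1 hp1pos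
  exact arith_false e t n p v he2 ht3 hnt hpe hv hfin

end Cfsg.Agent.Lib.Helper41.BRPG
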