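import Mathlib
import Cfsg.Agent.Lib.Helper41.EMStmt
import Cfsg.Agent.Lib.Helper41.TMStmt
import Cfsg.Agent.Lib.Helper10.C2MStmt
import Cfsg.Agent.Lib.Helper44.NegPairs

/-!
# S5990 / C2FIX: spare assembly of helper10's sub-call pieces (minus twin of `Helper59.C2Asm`)

`thm_of`: from the landed `TMStmt.Top`, `SubPerp`, `OrthSum`, the pieces `EMStmt.CancelM`,
`EMStmt.SubTypeE` and the pieces of `Helper10.C2MStmt` (PLANE0M, PLUSSUMM, QUADVANM, BLOCK4M)
to `EMStmt.C2Fix`.  Induction on `a`: an invariant nondegenerate NON-plus `A` of finrank `2 a`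
contains an invariant elliptic `n`-space for every even `n`, `2 ≤ n ≤ 2 a`, with
`n % 4 = 2` or `a` even.
-/

set_option autoImplicit false

universe u

open scoped Matrix

namespace Cfsg.Agent.Lib.Helper41.EMC2Asm

open Module
open Cfsg.Agent.Lib.Helper45.OMiStmt (M Aniso NDegM StabM)
open Cfsg.Agent.Lib.Helper41.TMTwoStmt (PlusM TSubM)
open Cfsg.Agent.Lib.Helper41.TMStmt (Top SubPerp OrthSum)
open Cfsg.Agent.Lib.Helper41.EMStmt (MemEM SubTypeE CancelM C2Fix)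
open Cfsg.Agent.Lib.Helper10.C2MStmt

section
set_option linter.unusedSectionVars false
set_option linter.unusedVariables false
variable {F : Type u} [Field F] [Fintype F] {d : ℕ}

theorem stab_sup (X : Matrix (M d) (M d) F) (A B : Submodule F (M d → F))
    (hA : StabM X A) (hB : StabM X B) : StabM X (A ⊔ B) := by
  unfold StabM at hA hB ⊢
  rw [Submodule.map_sup]
  exact sup_le_sup hA hB

theorem plus_bot (a₀ b₀ : F) : PlusM d F a₀ b₀ (⊥ : Submodule F (M d → F)) := by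
  refine ⟨⊥, le_refl _, ?_, by simp⟩
  intro w hw
  rw [(Submodule.mem_bot F).mp hw]
  exact map_zero (Cfsg.Agent.Lib.Helper44.NegPairs.minusQ (d - 1) F a₀ b₀)

/-- gluing a plus block `B` with a non-plus `W` orthogonal to it -/
theorem glue (hOS : OrthSum.{u}) (hC : CancelM.{u}) (a₀ b₀ : F) (hab : Aniso a₀ b₀)
    (X : Matrix (M d) (M d) F)
    (B W : Submodule F (M d → F)) (hBs : StabM X B) (hBn : NDegM d F a₀ b₀ B)
    (hBp : PlusM d F a₀ b₀ B)
    (hWs : StabM X W) (hWn : NDegM d F a₀ b₀ W) (hWp : ¬ PlusM d F a₀ b₀ W)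
    (horth : ∀ u ∈ B, ∀ v ∈ W,
      QuadraticMap.polar (Cfsg.quadFormMinus (d - 1) F a₀ b₀) u v = 0) :
    StabM X (B ⊔ W) ∧ NDegM d F a₀ b₀ (B ⊔ W) ∧ ¬ PlusM d F a₀ b₀ (B ⊔ W) ∧
      finrank F ↥(B ⊔ W) = finrank F ↥B + finrank F ↥W := by
  obtain ⟨h1, h2, h3⟩ := hOS F a₀ b₀ hab d B W hBn hWn horth
  exact ⟨stab_sup X B W hBs hWs, h1,
    fun hp => hWp (hC F a₀ b₀ hab d B W hBn hWn horth hp hBp), h3⟩

/-- the perp of a plus block inside a non-plus `A` -/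
theorem perp_in (hSP : SubPerp.{u}) (hPS : PlusSumM.{u}) (hOS : OrthSum.{u}) (a₀ b₀ : F)
    (hab : Aniso a₀ b₀) (x : Matrix.GeneralLinearGroup (M d) F)
    (hx : x ∈ Cfsg.isometryGroup F (Cfsg.quadFormMinus (d - 1) F a₀ b₀))
    (A B : Submodule F (M d → F)) (hAs : StabM (x : Matrix (M d) (M d) F) A)
    (hAn : NDegM d F a₀ b₀ A)
    (hAp : ¬ PlusM d F a₀ b₀ A) (hBA : B ≤ A) (hBs : StabM (x : Matrix (M d) (M d) F) B)
    (hBn : NDegM d F a₀ b₀ B) (hBp : PlusM d F a₀ b₀ B) :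
    ∃ A' : Submodule F (M d → F), A' ≤ A ∧ StabM (x : Matrix (M d) (M d) F) A' ∧
      NDegM d F a₀ b₀ A' ∧
      ¬ PlusM d F a₀ b₀ A' ∧ finrank F ↥B + finrank F ↥A' = finrank F ↥A ∧
      ∀ u ∈ B, ∀ v ∈ A', QuadraticMap.polar (Cfsg.quadFormMinus (d - 1) F a₀ b₀) u v = 0 := by
  obtain ⟨A', hA'A, hA'n, hinf, horth, hdim, hstab⟩ := hSP F a₀ b₀ hab d A B hAn hBn hBA
  obtain ⟨-, -, h3⟩ := hOS F a₀ b₀ hab d B A' hBn hA'n horth
  have hsup : B ⊔ A' = A := by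
    apply Submodule.eq_of_le_of_finrank_eq (sup_le hBA hA'A)
    rw [h3, hdim]
  have hA'p : ¬ PlusM d F a₀ b₀ A' := fun hp => hAp (by
    rw [← hsup]
    exact hPS F a₀ b₀ hab d B A' horth hinf hBp hp)
  exact ⟨A', hA'A, hstab x hx hAs hBs, hA'n, hA'p, hdim, horth⟩

end

theorem claim (hSP : SubPerp.{u}) (hC : CancelM.{u}) (hOS : OrthSum.{u}) (hSub : SubTypeE.{u})
    (hP0 : Plane0M.{u}) (hPS : PlusSumM.{u}) (hQV : QuadVanM.{u}) (hB4 : Block4M.{u})
    (F : Type u) [Field F] [Fintype F] (a₀ b₀ : F) (hab : Aniso a₀ b₀) [CharP F 2] (d : ℕ)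
    (x : Matrix.GeneralLinearGroup (M d) F)
    (hx : x ∈ Cfsg.isometryGroup F (Cfsg.quadFormMinus (d - 1) F a₀ b₀))
    (hxx : (x : Matrix (M d) (M d) F) * (x : Matrix (M d) (M d) F) = 1) :
    ∀ a : ℕ, ∀ A : Submodule F (M d → F), StabM (x : Matrix (M d) (M d) F) A →
      NDegM d F a₀ b₀ A → ¬ PlusM d F a₀ b₀ A → finrank F ↥A = 2 * a →
      ∀ n : ℕ, Even n → 2 ≤ n → n ≤ 2 * a → (n % 4 = 2 ∨ Even a) →
      ∃ W : Submodule F (M d → F), W ≤ A ∧ StabM (x : Matrix (M d) (M d) F) W ∧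
        NDegM d F a₀ b₀ W ∧ ¬ PlusM d F a₀ b₀ W ∧ finrank F ↥W = n := by
  intro a
  induction a using Nat.strong_induction_on with
  | _ a ih =>
  intro A hAs hAn hAp hAdim n hne hn2' hn hcond
  by_cases hnA : n = 2 * a
  · exact ⟨A, le_refl _, hAs, hAn, hAp, by rw [hAdim, hnA]⟩
  obtain ⟨n2, hn2⟩ := hne
  have hxv : ∀ v : M d → F,
      (x : Matrix (M d) (M d) F) *ᵥ ((x : Matrix (M d) (M d) F) *ᵥ v) = v := by
    intro v
    rw [Matrix.mulVec_mulVec, hxx, Matrix.one_mulVec]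
  have hxA : ∀ v ∈ A, (x : Matrix (M d) (M d) F) *ᵥ v ∈ A := by
    intro v hv
    have := hAs (Submodule.mem_map_of_mem hv)
    rwa [Matrix.toLin'_apply] at this
  -- the two kinds of steps
  have plane_step : ∀ Pl : Submodule F (M d → F), Pl ≤ A →
      StabM (x : Matrix (M d) (M d) F) Pl →
      NDegM d F a₀ b₀ Pl → PlusM d F a₀ b₀ Pl → finrank F ↥Pl = 2 →
      ∃ W : Submodule F (M d → F), W ≤ A ∧ StabM (x : Matrix (M d) (M d) F) W ∧
        NDegM d F a₀ b₀ W ∧ ¬ PlusM d F a₀ b₀ W ∧ finrank F ↥W = n := by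
    intro Pl hPlA hPls hPln hPlp hPldim
    obtain ⟨A', hA'A, hA's, hA'n, hA'p, hdim, horth⟩ :=
      perp_in hSP hPS hOS a₀ b₀ hab x hx A Pl hAs hAn hAp hPlA hPls hPln hPlp
    have hA'dim : finrank F ↥A' = 2 * (a - 1) := by omega
    by_cases h4 : n % 4 = 2
    · obtain ⟨W, hWA', hWs, hWn, hWp, hWdim⟩ := ih (a - 1) (by omega) A' hA's hA'n hA'p hA'dim n
        ⟨n2, hn2⟩ hn2' (by omega) (Or.inl h4)
      exact ⟨W, hWA'.trans hA'A, hWs, hWn, hWp, hWdim⟩
    · obtain ⟨W, hWA', hWs, hWn, hWp, hWdim⟩ := ih (a - 1) (by omega) A' hA's hA'n hA'p hA'dim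
        (n - 2) ⟨n2 - 1, by omega⟩ (by omega) (by omega) (Or.inl (by omega))
      obtain ⟨g1, g2, g3, g4⟩ := glue hOS hC a₀ b₀ hab (x : Matrix (M d) (M d) F) Pl W hPls
        hPln hPlp hWs hWn hWp (fun u hu v hv => horth u hu v (hWA' hv))
      exact ⟨Pl ⊔ W, sup_le hPlA (hWA'.trans hA'A), g1, g2, g3,
        by rw [g4, hPldim, hWdim]; omega⟩
  have block_step : ∀ B : Submodule F (M d → F), B ≤ A →
      StabM (x : Matrix (M d) (M d) F) B →
      NDegM d F a₀ b₀ B → PlusM d F a₀ b₀ B → finrank F ↥B = 4 →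
      ∃ W : Submodule F (M d → F), W ≤ A ∧ StabM (x : Matrix (M d) (M d) F) W ∧
        NDegM d F a₀ b₀ W ∧ ¬ PlusM d F a₀ b₀ W ∧ finrank F ↥W = n := by
    intro B hBA hBs hBn hBp hBdim
    obtain ⟨A', hA'A, hA's, hA'n, hA'p, hdim, horth⟩ :=
      perp_in hSP hPS hOS a₀ b₀ hab x hx A B hAs hAn hAp hBA hBs hBn hBp
    have ha2 : 2 ≤ a := by omega
    have hA'dim : finrank F ↥A' = 2 * (a - 2) := by omega
    have ha3 : 3 ≤ a := by
      by_contra h
      have h0 : finrank F ↥A' = 0 := by omega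
      have hbot : A' = ⊥ := Submodule.finrank_eq_zero.mp h0
      exact hA'p (by rw [hbot]; exact plus_bot a₀ b₀)
    have hcond' : n % 4 = 2 ∨ Even (a - 2) := by
      rcases hcond with h | ⟨k, hk⟩
      · exact Or.inl h
      · exact Or.inr ⟨k - 1, by omega⟩
    by_cases hle : n ≤ 2 * (a - 2)
    · obtain ⟨W, hWA', hWs, hWn, hWp, hWdim⟩ := ih (a - 2) (by omega) A' hA's hA'n hA'p hA'dim n
        ⟨n2, hn2⟩ hn2' hle hcond'
      exact ⟨W, hWA'.trans hA'A, hWs, hWn, hWp, hWdim⟩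
    · have hn' : n = 2 * a - 2 := by omega
      have ha4 : 4 ≤ a := by
        by_contra h
        have h3 : a = 3 := by omega
        rcases hcond with h | ⟨k, hk⟩ <;> omega
      obtain ⟨W, hWA', hWs, hWn, hWp, hWdim⟩ := ih (a - 2) (by omega) A' hA's hA'n hA'p hA'dim
        (n - 4) ⟨n2 - 2, by omega⟩ (by omega) (by omega) (by
          rcases hcond' with h | h
          · exact Or.inl (by omega)
          · exact Or.inr h)
      obtain ⟨g1, g2, g3, g4⟩ := glue hOS hC a₀ b₀ hab (x : Matrix (M d) (M d) F) B W hBs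
        hBn hBp hWs hWn hWp (fun u hu v hv => horth u hu v (hWA' hv))
      exact ⟨B ⊔ W, sup_le hBA (hWA'.trans hA'A), g1, g2, g3,
        by rw [g4, hBdim, hWdim]; omega⟩
  by_cases hi : ∃ w ∈ A, Cfsg.quadFormMinus (d - 1) F a₀ b₀ w = 0 ∧
      QuadraticMap.polar (Cfsg.quadFormMinus (d - 1) F a₀ b₀) w
        ((x : Matrix (M d) (M d) F) *ᵥ w) ≠ 0
  · obtain ⟨w, hwA, hw0, hwx⟩ := hi
    have hQx : Cfsg.quadFormMinus (d - 1) F a₀ b₀ ((x : Matrix (M d) (M d) F) *ᵥ w) = 0 := by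
      rw [← hw0]
      exact hx w w
    obtain ⟨p1, p2, p3⟩ := hP0 F a₀ b₀ hab d w ((x : Matrix (M d) (M d) F) *ᵥ w) hw0 hQx hwx
    refine plane_step _ ?_ ?_ p1 p2 p3
    · rw [Submodule.span_le]
      intro v hv
      rcases hv with rfl | hv
      · exact hwA
      · rw [Set.mem_singleton_iff.mp hv]
        exact hxA w hwA
    · unfold StabM
      rw [Submodule.map_le_iff_le_comap, Submodule.span_le]
      intro v hv
      rw [SetLike.mem_coe, Submodule.mem_comap, Matrix.toLin'_apply]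
      rcases hv with rfl | hv
      · exact Submodule.subset_span (by simp)
      · rw [Set.mem_singleton_iff.mp hv, hxv]
        exact Submodule.subset_span (by simp)
  · push Not at hi
    by_cases hfix : ∀ u ∈ A, (x : Matrix (M d) (M d) F) *ᵥ u = u
    · obtain ⟨-, hE⟩ := hSub F a₀ b₀ hab d n A hAn ⟨n2, hn2⟩ (by omega)
      obtain ⟨W, hWA, hWM⟩ := hE hn2'
      obtain ⟨hWdim, hWn, hWp⟩ := hWM
      refine ⟨W, hWA, ?_, hWn, hWp, hWdim⟩
      unfold StabM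
      rw [Submodule.map_le_iff_le_comap]
      intro v hv
      rw [Submodule.mem_comap, Matrix.toLin'_apply, hfix v (hWA hv)]
      exact hv
    · push Not at hfix
      obtain ⟨u, huA, hux⟩ := hfix
      obtain ⟨⟨P, hPA, hPdim, hPn, U, hUP, hUts, hUdim⟩, -⟩ :=
        hSub F a₀ b₀ hab d 2 A hAn ⟨1, rfl⟩ (by omega)
      have hU1 : finrank F ↥U = 1 := by omega
      obtain ⟨e, heU, he0⟩ : ∃ e ∈ U, e ≠ 0 := by
        by_contra hcon
        push Not at hcon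
        have hUb : U = ⊥ := by
          rw [Submodule.eq_bot_iff]
          exact hcon
        rw [hUb] at hU1
        simp at hU1
      have hg := hQV F a₀ b₀ hab d x hx hxx A hAn e (hPA (hUP heU)) he0 (hUts e heU) hi
      obtain ⟨B, hBA, hBs, hBn, hBp, hBdim⟩ := hB4 F a₀ b₀ hab d x hx hxx A hAs hAn hg u huA hux
      exact block_step B hBA hBs hBn hBp hBdim

theorem thm_of (hTop : Top.{u}) (hSP : SubPerp.{u}) (hOS : OrthSum.{u}) (hC : CancelM.{u})
    (hSub : SubTypeE.{u}) (hP0 : Plane0M.{u}) (hPS : PlusSumM.{u}) (hQV : QuadVanM.{u})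
    (hB4 : Block4M.{u}) : C2Fix.{u} := by
  intro F _ _ a₀ b₀ hab _ d m hd hm2 hme hmd hcond x hx hxx
  obtain ⟨hTn, hTp⟩ := hTop F a₀ b₀ hab d
  have hdim : finrank F ↥(⊤ : Submodule F (M d → F)) = 2 * d := by
    rw [finrank_top, Module.finrank_fintype_fun_eq_card]
    simp [M]
    omega
  have hStop : StabM (x : Matrix (M d) (M d) F) (⊤ : Submodule F (M d → F)) := by
    unfold StabM
    exact le_top
  obtain ⟨W, -, hWs, hWn, hWp, hWdim⟩ := claim hSP hC hOS hSub hP0 hPS hQV hB4 F a₀ b₀ hab d x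
    hx hxx d ⊤ hStop hTn hTp hdim m hme hm2 (by omega) (by
      rcases hcond with h | h
      · exact Or.inr h
      · exact Or.inl h)
  exact ⟨W, ⟨hWdim, hWn, hWp⟩, hWs⟩

end Cfsg.Agent.Lib.Helper41.EMC2Asm
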