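import Cfsg.Agent.Lib.Helper85.PPStmt
import Cfsg.Agent.H85.Basic
import Cfsg.Agent.S5096
import Cfsg.Agent.S5098

set_option autoImplicit false

/-! S5113 piece CL: `Compat` (an `F`-automorphism of `Q` that extends to a map of `F` on a rigid
`M` with `Q ≤ M ≤ N_T(Q)`, written `c_s ∘ Star`, has local degree `δ s`). -/

namespace Cfsg.Agent.Lib.Helper41.PPCL

open Cfsg Cfsg.FusionSystem Cfsg.Agent.Lib.Helper85.PPStmt

universe u v

theorem main (hKD : KeyDec.{u}) (hSM : StarMono.{u}) (hSR : StarRes.{u})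
    (hRD : RigidDeg.{u, v}) : Compat.{u, v} := by
  intro Ω _ S _ p _ hS F hF A _ δ T hDD Q M hQ hQM hMT hMN hrig φ hφ hφQ γ hγ s hdec
  have hQS : Q ≤ S := hQ.1
  have hMS : M ≤ S := hMT.trans hDD.le
  -- `φ` maps `Q` onto `Q`
  have : Finite Q := Finite.of_injective (Subgroup.inclusion hQS) (Subgroup.inclusion_injective hQS)
  have hφinj := F.injective_of_mem hφ
  let f : Q → Q := fun x => ⟨φ ⟨x, hQM x.2⟩, hφQ ⟨x, hQM x.2⟩ x.2⟩
  have hfinj : Function.Injective f := by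
    intro a b hab
    have h1 : φ ⟨a, hQM a.2⟩ = φ ⟨b, hQM b.2⟩ := congrArg Subtype.val hab
    have h2 := hφinj h1
    apply Subtype.ext
    exact congrArg (fun z : M => (z : Ω)) h2
  have hfsurj : Function.Surjective f := Finite.surjective_of_injective hfinj
  have hsurj : ∀ y ∈ Q, ∃ x : M, (x : Ω) ∈ Q ∧ φ x = y := by
    intro y hy
    obtain ⟨x, hx⟩ := hfsurj ⟨y, hy⟩
    exact ⟨⟨x, hQM x.2⟩, x.2, congrArg Subtype.val hx⟩
  -- the normalizer system
  obtain ⟨N, hN⟩ := Cfsg.Agent.S5096.result F Q hQS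
  have hNsat : N.IsSaturated p := Cfsg.Agent.S5098.result p hS F hF Q hQ N hN
  have hUS : normalizerIn S Q ≤ S := inf_le_left
  have : Finite ↥(normalizerIn S Q) :=
    Finite.of_injective (Subgroup.inclusion hUS) (Subgroup.inclusion_injective hUS)
  have hUp : IsPGroup p ↥(normalizerIn S Q) := hS.to_le hUS
  have hNF : N.IsSubsystemOf F := by
    intro P χ hχ
    rw [hN P] at hχ
    exact hχ.1
  -- `φ` is a map of the normalizer system
  have hMU : M ≤ normalizerIn S Q := fun m hm => ⟨hMS hm, hMN m hm⟩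
  have hφN : φ ∈ N.Hom M := by
    rw [hN M]
    refine ⟨hφ, hMU, ?_, ?_⟩
    · intro x
      refine ⟨(F.le_of_mem hφ).2 x, ?_⟩
      show φ x ∈ Subgroup.normalizer (Q : Set Ω)
      rw [Subgroup.mem_normalizer_iff]
      intro h
      constructor
      · intro hh
        obtain ⟨q, hq, rfl⟩ := hsurj h hh
        have h1 : (x : Ω) * (q : Ω) * (x : Ω)⁻¹ ∈ Q := by
          have := hMN x x.2
          rw [Subgroup.mem_normalizer_iff] at this
          exact (this q).mp hq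
        have h2 : φ x * φ q * (φ x)⁻¹ = φ (x * q * x⁻¹) := by
          rw [map_mul, map_mul, map_inv]
        rw [h2]
        exact hφQ _ h1
      · intro hh
        obtain ⟨q, hq, hq2⟩ := hsurj _ hh
        have h1 : (x : Ω)⁻¹ * (q : Ω) * (x : Ω) ∈ Q := by
          have := hMN x x.2
          rw [Subgroup.mem_normalizer_iff''] at this
          exact (this q).mp hq
        have h2 : h = φ (x⁻¹ * q * x) := by
          rw [map_mul, map_mul, map_inv, hq2]
          group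
        rw [h2]
        exact hφQ _ h1
    · have hle : M ⊔ Q ≤ M := sup_le le_rfl hQM
      refine ⟨φ.comp (Subgroup.inclusion hle), Cfsg.Agent.H85.restrict_mem F hφ hle,
        fun x => rfl, ?_⟩
      ext y
      constructor
      · rintro ⟨x, hx, rfl⟩
        exact hφQ _ (Subgroup.mem_subgroupOf.mp hx)
      · intro hy
        obtain ⟨q, hq, rfl⟩ := hsurj y hy
        exact ⟨⟨q, Subgroup.mem_sup_right hq⟩, Subgroup.mem_subgroupOf.mpr hq, rfl⟩
  -- decomposition in the normalizer system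
  obtain ⟨s1, ψ1, hψ1, hφ1⟩ := hKD Ω (normalizerIn S Q) p hUp N hNsat M φ hφN
  have hψ1F : Star F p M ψ1 := hSM Ω S (normalizerIn S Q) F N p hUS hNF M ψ1 hψ1
  have hdec1 : Dec F p φ ⟨(s1 : Ω), hUS s1.2⟩ := ⟨ψ1, hψ1F, hφ1⟩
  have hδ : δ s = δ ⟨(s1 : Ω), hUS s1.2⟩ := hRD Ω S p hS F hF A δ M φ s _ hrig hdec hdec1
  -- restriction of `ψ1` to `Q`
  have hQU : Q ≤ normalizerIn S Q := fun q hq => ⟨hQS hq, Subgroup.le_normalizer hq⟩
  have hinv : ∀ (R : Subgroup Ω) (χ : R →* Ω), χ ∈ N.Hom R → Q ≤ R →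
      ∀ x : R, (x : Ω) ∈ Q → χ x ∈ Q := by
    intro R χ hχ _ x hx
    rw [hN R] at hχ
    obtain ⟨-, -, -, ψ, -, hψ, hψQ⟩ := hχ
    have h1 : ψ (Subgroup.inclusion le_sup_left x) ∈ (Q.subgroupOf (R ⊔ Q)).map ψ :=
      ⟨Subgroup.inclusion le_sup_left x, Subgroup.mem_subgroupOf.mpr hx, rfl⟩
    rw [hψQ] at h1
    rw [← hψ x]
    exact h1
  obtain ⟨n, hn, hnψ⟩ := hSR Ω S (normalizerIn S Q) F N p hUS hNF Q hQU hinv M ψ1 hψ1 hQM
  refine ⟨n, ⟨(s1 : Ω), hUS s1.2⟩, hn, s1.2.2, hδ.symm, fun x => ?_⟩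
  rw [hγ x (hQM x.2), hφ1, hnψ x (hQM x.2)]

end Cfsg.Agent.Lib.Helper41.PPCL
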