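import Cfsg.Agent.Lib.Helper85.PPStmt
import Cfsg.Agent.H85.Hyp
import Cfsg.Agent.Lib.Helper87.FSBasic

set_option autoImplicit false

/-! S5113 piece SB1: Star basics (`mem`, `restrict`, `hyp`, `ofResid`, `subtype`). -/

namespace Cfsg.Agent.Lib.Helper41.PPSB1

open Cfsg Cfsg.FusionSystem Cfsg.Agent.Lib.Helper85.PPStmt

universe u

section aux

variable {Ω : Type u} [Group Ω] {S : Subgroup Ω}

/-- a homomorphism pointwise equal to a Star map is a Star map -/
theorem star_congr {F : FusionSystem S} {p : ℕ} {P : Subgroup Ω} {φ φ' : P →* Ω}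
    (h : Star F p P φ) (e : ∀ x, φ' x = φ x) : Star F p P φ' := by
  have : φ' = φ := MonoidHom.ext e
  rw [this]; exact h

theorem star_mem {F : FusionSystem S} {p : ℕ} {P : Subgroup Ω} {φ : P →* Ω}
    (h : Star F p P φ) : φ ∈ F.Hom P := by
  induction h with
  | base hR β hβ hPR =>
    have h1 := (Cfsg.Agent.Lib.Helper87.FSBasic.mem_autGroup_iff F hR (β : MulAut _)).mp β.2
    exact Cfsg.Agent.H85.restrict_mem F h1 hPR
  | comp h _ _ ih1 ih2 => exact F.comp_mem ih1 ih2 h

theorem star_restrict {F : FusionSystem S} {p : ℕ} {P : Subgroup Ω} {φ : P →* Ω}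
    (h : Star F p P φ) : ∀ (R : Subgroup Ω) (hR : R ≤ P),
      Star F p R (φ.comp (Subgroup.inclusion hR)) := by
  induction h with
  | base hR₀ β hβ hPR =>
    intro R hR
    exact star_congr (Star.base hR₀ β hβ (hR.trans hPR)) (fun x => rfl)
  | comp h _ h2 ih1 _ =>
    intro R hR
    exact star_congr (Star.comp (fun x => h (Subgroup.inclusion hR x)) (ih1 R hR) h2)
      (fun x => rfl)

theorem star_hyp {F : FusionSystem S} {p : ℕ} {P : Subgroup Ω} {φ : P →* Ω}
    (h : Star F p P φ) : ∀ x : P, (x : Ω)⁻¹ * φ x ∈ F.hyperfocalSubgroup p := by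
  induction h with
  | base hR β hβ hPR =>
    intro x
    exact Cfsg.Agent.H85.mem_hyperfocal_of F p hR β hβ (Subgroup.inclusion hPR x)
  | @comp P Q φ ψ h _ _ ih1 ih2 =>
    intro x
    have e : (x : Ω)⁻¹ * (ψ.comp (φ.codRestrict Q h)) x =
        ((x : Ω)⁻¹ * φ x) * ((φ x)⁻¹ * ψ ⟨φ x, h x⟩) := by
      show (x : Ω)⁻¹ * ψ ⟨φ x, h x⟩ = _
      group
    rw [e]
    exact Subgroup.mul_mem _ (ih1 x) (ih2 ⟨φ x, h x⟩)

theorem star_ofResid {F : FusionSystem S} {p : ℕ} {R : Subgroup Ω} (hR : R ≤ S)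
    (β : F.autGroup R) (hβ : β ∈ pResidual p (F.autGroup R)) :
    Star F p R (R.subtype.comp (β : MulAut R).toMonoidHom) :=
  star_congr (Star.base hR β hβ (le_refl R)) (fun x => rfl)

theorem star_subtype {F : FusionSystem S} {p : ℕ} {P : Subgroup Ω} (hP : P ≤ S) :
    Star F p P P.subtype :=
  star_congr (Star.base hP (1 : F.autGroup P) (Subgroup.one_mem _) (le_refl P)) (fun x => rfl)

end aux

theorem mem : StarMem.{u} := fun _ _ _ _ _ _ _ h => star_mem h

theorem restrict : StarRestrict.{u} := fun _ _ _ _ _ _ R _ hR h => star_restrict h R hR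

theorem hyp : StarHyp.{u} := fun _ _ _ _ _ _ _ h => star_hyp h

theorem ofResid : StarOfResid.{u} := fun _ _ _ _ _ _ hR β hβ => star_ofResid hR β hβ

theorem subtype : StarSubtype.{u} := fun _ _ _ _ _ _ hP => star_subtype hP

end Cfsg.Agent.Lib.Helper41.PPSB1
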