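import Cfsg.Agent.Lib.Helper41.PPSB1

set_option autoImplicit false

/-! S5113 piece SB2: `StarConj` (conjugating a Star map by `s ∈ S` gives a Star map). -/

namespace Cfsg.Agent.Lib.Helper41.PPSB2

open Cfsg Cfsg.FusionSystem Cfsg.Agent.Lib.Helper85.PPStmt Cfsg.Agent.Lib.Helper41.PPSB1

universe u

section aux

variable {Ω : Type u} [Group Ω] {S : Subgroup Ω}

/-- conjugation by `s⁻¹` as a homomorphism `P' →* P` -/
def conjBack (P P' : Subgroup Ω) (s : Ω) (h : ∀ y : P', s⁻¹ * (y : Ω) * s ∈ P) : P' →* P where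
  toFun y := ⟨s⁻¹ * (y : Ω) * s, h y⟩
  map_one' := by
    apply Subtype.ext
    show s⁻¹ * (1 : Ω) * s = 1
    group
  map_mul' a b := by
    apply Subtype.ext
    show s⁻¹ * ((a : Ω) * (b : Ω)) * s = (s⁻¹ * (a : Ω) * s) * (s⁻¹ * (b : Ω) * s)
    group

/-- the conjugated map `y ↦ s φ(s⁻¹ y s) s⁻¹` -/
def conjMap {P : Subgroup Ω} (φ : P →* Ω) (P' : Subgroup Ω) (s : Ω)
    (h : ∀ y : P', s⁻¹ * (y : Ω) * s ∈ P) : P' →* Ω :=
  (MulAut.conj s).toMonoidHom.comp (φ.comp (conjBack P P' s h))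

theorem conjMap_apply {P : Subgroup Ω} (φ : P →* Ω) (P' : Subgroup Ω) (s : Ω)
    (h : ∀ y : P', s⁻¹ * (y : Ω) * s ∈ P) (y : P') :
    conjMap φ P' s h y = s * φ ⟨s⁻¹ * (y : Ω) * s, h y⟩ * s⁻¹ := rfl

theorem star_conj {F : FusionSystem S} {p : ℕ} {s : Ω} (hs : s ∈ S) {P : Subgroup Ω}
    {φ : P →* Ω} (hst : Star F p P φ) :
    ∀ (P' : Subgroup Ω) (φ' : P' →* Ω) (hP' : ∀ x : P, s * (x : Ω) * s⁻¹ ∈ P'),
      (∀ y : P', s⁻¹ * (y : Ω) * s ∈ P) →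
      (∀ x : P, φ' ⟨s * (x : Ω) * s⁻¹, hP' x⟩ = s * φ x * s⁻¹) → Star F p P' φ' := by
  induction hst with
  | @base R P hR β hβ hPR =>
    intro P' φ' hP' hback hφ'
    have hR' : R.map (MulAut.conj s).toMonoidHom ≤ S := by
      rintro _ ⟨z, hz, rfl⟩
      exact S.mul_mem (S.mul_mem hs (hR hz)) (S.inv_mem hs)
    have hc := Cfsg.Agent.H85.isIso_conjIso F hR hs
    have hβ' := Cfsg.Agent.H85.pResidual_map_of_injective _
      (Cfsg.Agent.H85.autCongrHom_injective F hc) hβ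
    have hP'R' : P' ≤ R.map (MulAut.conj s).toMonoidHom := by
      intro y hy
      refine ⟨s⁻¹ * y * s, hPR (hback ⟨y, hy⟩), ?_⟩
      show s * (s⁻¹ * y * s) * s⁻¹ = y
      group
    refine star_congr (Star.base hR' (Cfsg.Agent.H85.autCongrHom F hc β) hβ' hP'R') ?_
    intro y
    have hy : y = ⟨s * ((⟨s⁻¹ * (y : Ω) * s, hback y⟩ : P) : Ω) * s⁻¹,
        hP' ⟨s⁻¹ * (y : Ω) * s, hback y⟩⟩ := by
      apply Subtype.ext
      show (y : Ω) = s * (s⁻¹ * (y : Ω) * s) * s⁻¹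
      group
    have h1 := hφ' ⟨s⁻¹ * (y : Ω) * s, hback y⟩
    rw [← hy] at h1
    rw [h1]
    show s * (((β : MulAut R) (Subgroup.inclusion hPR ⟨s⁻¹ * (y : Ω) * s, hback y⟩) : R) : Ω)
        * s⁻¹ = _
    have h2 : (Cfsg.Agent.H85.conjIso R s).symm (Subgroup.inclusion hP'R' y) =
        Subgroup.inclusion hPR ⟨s⁻¹ * (y : Ω) * s, hback y⟩ := by
      rw [MulEquiv.symm_apply_eq]
      apply Subtype.ext
      rw [Cfsg.Agent.H85.coe_conjIso]
      show (y : Ω) = s * (s⁻¹ * (y : Ω) * s) * s⁻¹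
      group
    show _ = (((Cfsg.Agent.H85.autCongrHom F hc β : ↥(F.autGroup _)) : MulAut _)
      (Subgroup.inclusion hP'R' y) : (R.map (MulAut.conj s).toMonoidHom : Subgroup Ω)).1
    rw [Cfsg.Agent.H85.autCongrHom_apply, h2, Cfsg.Agent.H85.coe_conjIso]
  | @comp P Q φ ψ h h1 h2 ih1 ih2 =>
    intro P' χ' hP' hback hχ'
    -- the conjugate of `Q`
    have hQ'mem : ∀ z : Q, s * (z : Ω) * s⁻¹ ∈ Q.map (MulAut.conj s).toMonoidHom :=
      fun z => ⟨z, z.2, rfl⟩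
    have hQback : ∀ y : (Q.map (MulAut.conj s).toMonoidHom : Subgroup Ω),
        s⁻¹ * (y : Ω) * s ∈ Q := by
      rintro ⟨_, z, hz, rfl⟩
      show s⁻¹ * (s * z * s⁻¹) * s ∈ Q
      have : s⁻¹ * (s * z * s⁻¹) * s = z := by group
      rw [this]; exact hz
    have st1 : Star F p P' (conjMap φ P' s hback) := by
      refine ih1 P' (conjMap φ P' s hback) hP' hback (fun x => ?_)
      rw [conjMap_apply]
      have : (⟨s⁻¹ * (s * (x : Ω) * s⁻¹) * s, hback ⟨s * (x : Ω) * s⁻¹, hP' x⟩⟩ : P) = x := by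
        apply Subtype.ext
        show s⁻¹ * (s * (x : Ω) * s⁻¹) * s = x
        group
      rw [this]
    have st2 : Star F p (Q.map (MulAut.conj s).toMonoidHom)
        (conjMap ψ (Q.map (MulAut.conj s).toMonoidHom) s hQback) := by
      refine ih2 _ (conjMap ψ _ s hQback) hQ'mem hQback (fun x => ?_)
      rw [conjMap_apply]
      have : (⟨s⁻¹ * (s * (x : Ω) * s⁻¹) * s, hQback ⟨s * (x : Ω) * s⁻¹, hQ'mem x⟩⟩ : Q) = x := by
        apply Subtype.ext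
        show s⁻¹ * (s * (x : Ω) * s⁻¹) * s = x
        group
      rw [this]
    have hcod : ∀ y : P', conjMap φ P' s hback y ∈ Q.map (MulAut.conj s).toMonoidHom := by
      intro y
      rw [conjMap_apply]
      exact ⟨φ ⟨s⁻¹ * (y : Ω) * s, hback y⟩, h _, rfl⟩
    refine star_congr (Star.comp hcod st1 st2) ?_
    intro y
    have hy : y = ⟨s * ((⟨s⁻¹ * (y : Ω) * s, hback y⟩ : P) : Ω) * s⁻¹,
        hP' ⟨s⁻¹ * (y : Ω) * s, hback y⟩⟩ := by
      apply Subtype.ext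
      show (y : Ω) = s * (s⁻¹ * (y : Ω) * s) * s⁻¹
      group
    have e1 := hχ' ⟨s⁻¹ * (y : Ω) * s, hback y⟩
    rw [← hy] at e1
    rw [e1]
    show s * ψ ⟨φ ⟨s⁻¹ * (y : Ω) * s, hback y⟩, h _⟩ * s⁻¹ =
      conjMap ψ (Q.map (MulAut.conj s).toMonoidHom) s hQback
        ⟨conjMap φ P' s hback y, hcod y⟩
    rw [conjMap_apply]
    have : (⟨s⁻¹ * ((⟨conjMap φ P' s hback y, hcod y⟩ :
        (Q.map (MulAut.conj s).toMonoidHom : Subgroup Ω)) : Ω) * s, hQback _⟩ : Q) =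
        ⟨φ ⟨s⁻¹ * (y : Ω) * s, hback y⟩, h _⟩ := by
      apply Subtype.ext
      show s⁻¹ * (s * φ ⟨s⁻¹ * (y : Ω) * s, hback y⟩ * s⁻¹) * s = _
      group
    rw [this]

end aux

theorem main : StarConj.{u} := fun _ _ _ _ _ _ P' _ φ' _ hs hst hP' hback hφ' =>
  star_conj hs hst P' φ' hP' hback hφ'

end Cfsg.Agent.Lib.Helper41.PPSB2
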